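import Cfsg.Agent.Helper19.TCR.StaticDefs

set_option autoImplicit false
set_option linter.all false
set_option maxRecDepth 1000000
set_option maxHeartbeats 0

namespace Cfsg.Agent.Helper19.SpP

open Cfsg.Agent.Helper19.TCS

noncomputable def col0 : Tr Nat := (.nd (.lf (nat_lit 0x5cc88aedd40559e4051ebc1015477e02aaf6c054dde051cb765e526de02a2b9110a9b52f14b0501265f08e4eb8110915d1911bb701216e0bc40f9030b9f40616aee442c5645856b9404d9b5809aaea44285f20266c111cd15e1912ae101325760262ee82889db0518371012f55e0230b8c04595c808ab725e145e08836bc9106951130caae2c1f560582eb8910795c190eb73011c5384c1cab0b035742208aa829105404c1ea74044d5680892140e0953e0210a98a4290a808629e260b426020a878601909060394c440329a02081e404043c0c01002a300)) (.lf (nat_lit 0x61202faff031f98423bfbce0a7c70e0320e140645c42f3cc040c758201cef27099da0280bc30701727dc18e6c191dd1c02f4737f018f5ec88dec2c06318723c6bd9018b78414d6ee02a29e30533bf00c6878e02d2fa83221f680c4bdc0c87932030cf482989be80c237b01857c418bec0c052d8023a637901496d8bc90bfc05097e23a1b685e415ce027edd178f9df051dbc00a3c7b41874ddc04e1b72f1bc120e509444c9efe831397a2226b01015d6048ebce097929bc2f2e36d015b5f48e8af9831197d80a3aec44445fa02b2bf91d69b480ac2be3240))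 (.lf (nat_lit 0x8502135094066df9064c3f5019994c4d2d2a4065e4d134acc02c9496c4d6f02406ce0a075acb226b4810196cf3406c5e6055941b01ad9784d592789aba0d07584bd01af7ee03510383aaa521354bf60cab842038908843158623d1bf80ca461a034af783309f080e1bd60aa07941580f14070601064e403019d848217d0a406fdfa065e3f301bd9504d7529c06ee4d80dccc101b87a20324f402a4dc22f3d3865e7b6fcbce0e0405c58780b6b0a476e7b018d8ee405a9f60632beb01667ba02c9260998dbd2f3037c5e619404d07590320a0c0740cb02680)) (.lf (nat_lit 0x167063facd0c7ecda44fb9b603f937113e66e80fd4ce2cf899203d92ec07d26680f9cba26f699859eb328b3c66580f940b01eb80c19dd01c07be200c76cc82cf78141de1078434e130865c2b01cc9544d912b09b266280e3cd901c6acc19c70703b7a5c80eecb426e098c59bf074078a5c1370cbf01da98459b72f89b7206076b4ae26d8ac419af0340765ff06654160ed483e03d4f502b42000668bd501d2858219d0b4073e1f0c66c2a10e884e03d2ffc07565680f34ab01e798859cb36113921180d342010a77c01942f7c0689e2054f3cb019f)))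

end Cfsg.Agent.Helper19.SpP
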