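import Cfsg.Agent.Helper19.TCR.StaticDefs

set_option autoImplicit false
set_option linter.all false
set_option maxRecDepth 1000000
set_option maxHeartbeats 0

namespace Cfsg.Agent.Helper19.SpP

open Cfsg.Agent.Helper19.TCS

noncomputable def col1 : Tr Nat := (.nd (.lf (nat_lit 0xca02d4004048caa25140801a27106024c000018c590e1286014243b0d66e1a8517000808f897015516a02a818c054800002b068141e094243b50238b8000027959011b16e02941b4052400808c155013d102027820868ec59809c8610138000007c1f8685c330a0b0461215000006a1a404c025809780101122b094586c958443e0d0800000290fe024419c0484238090001010d09a02180000070d9808d07d01191603814124042400000a04c1213002020e2c4043c240907001010500000166e964180000041504a0429c94061e86808570e00804a400)) (.lf (nat_lit 0x37e036400002d0af80d89b6564d11c3498244052d140d3c8ab01af0a4255c00405180000561bd0193000015255c0649100d38a2e1c702ba0340264067c5c80cf1ee7a6c108348019050fcb426a3c4a1a682a4948a27c065c500d4b04e129500202746d15910430d21889014245434be24c06444a0d4806b01363d0f0b622c0614460d421ec7a580de031400404c44b0d1a0b41c33000010c18850c8ed35a88541283002025a0000200db80be08f017b12034f42d870ac360a151de71482d202d200001d8a980b39b5016210e02c22206980f53d20885016b))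 (.lf (nat_lit 0x76203ab50a3aac540d738bd01e6138351228c06202880c3b9663b80b4250230407842c0970001017e00001ba6f965fcaf253e8bf01dc15434f014c05dc2f80ed0010175a86037c1584b600080b9d45019b634954ec792a98b580e944d01cd2b603a08906a89130d5095c4a6f13034dc2e071b5d53d4eba87a9ca891d5058c07285280e48a61ac813c34cc28405942780b23946394378b2e855929c8490d2f095015d444351e8c072384d0d608bb01c03e109161b8515c4e80dd8a21aba0a02572004054c450d2d08d01590aa02a146986082d80db801014e)) (.lf (nat_lit 0x15d86bfaba0d7ed6a14fcad029f75b853eab60a7cc541af8748f5ee2b4078a862ffa85d01dea1cbfe74b1bfca9537f8bac8ee88a435df0d853ba2780ea3a67aec2c20398c892baaa780ecbad01f0152037a2f072f1cc31f2c2e14e4aa121c62b06bd8600e5b05901b5a50dfbe1704bd00080d98be1cb0a9521b61784ab6a7487485701aab2071af532432dd84a5fc4e1aed63095a65a93696280d6895a4aa3868299f0c8533a260d521604aeba9a03ac5892a68520d4c8a70198734c78f0c053198e2562b204ac445835868c873084d80c68ba1c8c)))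

end Cfsg.Agent.Helper19.SpP
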