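import Cfsg.Agent.Helper19.TCR.StaticDefs

set_option autoImplicit false
set_option linter.all false
set_option maxRecDepth 1000000
set_option maxHeartbeats 0

namespace Cfsg.Agent.Helper19.SpP

open Cfsg.Agent.Helper19.TCS

noncomputable def col2 : Tr Nat := (.nd (.lf (nat_lit 0xd877405580000340cb01651d83ccc00404846e0f2f9fa934900202409c404a800002da7a22264f2024e000016000808e800005300000a2004046c00808d000004e18c3c329c088d800002400000464f044669ec04d0660f200000041002022ae29808800001d000003700202269b888580000189d66414000005c00000b4638095801010e192021e9bc04780000119d7011c000003e004042e3b1208a7422101903c2e00000600080841e2740900000243107818f18086000000d002020831404280080818000007000000a30c0404610f01006a500)) (.lf (nat_lit 0x1ca036c0040534000059d1c6a7c46e02c08d079846d80a50f3014751c455544181d80080a28e101ab002028800002a06980a10ce1e4300001483607a846b0f51001013f718c0d69d889907a0f4e801013d00001383b404ec650f1e277016a000012951a3d891a80bd2361e7b1ba02729f8892d3e80a61f90152002026a34406386a0f4780101320000116771c0f86f80c40ea1e8900202607e24d70008097a910181000010400404b000003f27c225d4fe02bc36879e4fd809c00101291e43cf000404a000003a800007319e02e034879c40080920cd0125))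 (.lf (nat_lit 0x90c493520c073d41116028622c11de03cb4d9ef15c7314a801018600001c639079fd4980ea00000df00202fb1fc06c63f125928c22d9a30c158000036d45116b51901af1c03ce8a3c05dc00006b80101728f603894e4065c780f6a801016f75d279435c05b46c80b700000d150a0330a0406647a80b48010167000019d21c06fd40114f284229fa70f74c3987b1dc780dc80101639020325200924d1c80c223a1e851aa02b234079687480e10e21ec300202ae9c88a1c7580aa0de1e554e6031400002e11d80c82381e91a68f706004053d4811285488f80)) (.lf (nat_lit 0x16807bfacf0f7ed8424fbb0a03f961893e6c380fd0fd01ed00203d145c07d07d80f0d1660f600203ba3e407700080ed28901e21ee03a400407407e0f7c00101cc8b603bd1e0934e42126580000f7720c590e498b24770f5dc7d01c6002036ea208bc07d0f7ad1460e000203691687bac0000798f81ef2002035c00003c54680d853a7bd80020352a2c06b47880d2a9222b58f203d43d87bbc0080d000000ee904497c004066e89306680000ec90a03d2ebc068dc980f339101e71ce032d1f093929b80dd47a24a71c603183a07a354380de28301bd)))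

end Cfsg.Agent.Helper19.SpP
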