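import Cfsg.Agent.Helper19.TCR.StaticDefs

set_option autoImplicit false
set_option linter.all false
set_option maxRecDepth 1000000
set_option maxHeartbeats 0

namespace Cfsg.Agent.Helper19.SpP

open Cfsg.Agent.Helper19.TCS

noncomputable def col3 : Tr Nat := (.nd (.lf (nat_lit 0x2dca054520e4a4bd80b110d016021c40c2000019083101107616213c202a27ca1d5cf380ab115015922040b41cc04789b118f875015200202394f1f0b8000028177011a27046805bc04fca4809f1750144212028442c050c82100b8710116268463041c04e43b809c001011426e02621c858c8008089000002f2fa02225d940b0818087935012320a024a1c05890008086800002000202160000074be280d901010a2044032004042000000a801010700000264008040008082800000e0000018950801800000496c50032da02083fc04047f1001008a600)) (.lf (nat_lit 0x342034a00002d4c180d198050a0336033c65c067dce36bc92d01b0002028c00002b800005699f014700001545c941152b80c7258208f2fe029a6614d2cca29a621d018b29602945c14124d229c9d5495682f2032446c06608f104c801013a000012a5e940f487809d90c203c740dabe6740630d329c69ff018a3c8ee9044404cc8a101a1fc95413e6026c799dcd48b80c21122085000010e1d058c0f0399b801012d00001060000204bf2837995016d33202dc528e5acb880b51e5015b33ca6e800001dcb980b91745028214404c420809cfe80ac139012b))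 (.lf (nat_lit 0x31e03d061c07a49380c4118208924603cc490839c0080c339e6d9400203004c883880080bf00000e000001bc68c0748c280e812c207826203b800405d80080ba80000da25041b200405cc00006c00000d66660388cd14314d029bf80000d4304a0fa96c07092e80e1981017c32ca6f46694dee9739ce52f019d312039663407308f80b291a206623a039048083240080b1b9f01b834a02d25e1419d0c80e021701c14b202e095881c4d380ae99c535e4382cd87fa55708c80de12620bd00202a600002e48980aa1162055002029f55a56080080a700000b7)) (.lf (nat_lit 0x169083fad1107ed7016fbae203f95c85be6b980fd53073f8a4603d84bc07869380f980101dda4cdbeb4c9dfc69980f912a20d5a48dbdd49407bcd429e6d226df73160394cc1434cc3285f18e50bf24a037448882edd180e3c3d01c6b0447c64cc06d897107b00101b4a3cdbbe00406cc00007a13020afaa52bb600406b09480d580101a9b0041ae00406a09580f800101a466203d46894eca9036e898450b1ab12b9d564073cd480f698c509a310a13662943ac9080cb11c2097744dbcb0f05b919a80d333250a74b8414296882890b09c82181391)))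

end Cfsg.Agent.Helper19.SpP
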