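import Cfsg.Agent.Helper19.TCR.StaticDefs

set_option autoImplicit false
set_option linter.all false
set_option maxRecDepth 1000000
set_option maxHeartbeats 0

namespace Cfsg.Agent.Helper19.SpP

open Cfsg.Agent.Helper19.TCS

noncomputable def col4 : Tr Nat := (.nd (.lf (nat_lit 0x2024600001a80080913425c5400000cea54054c00003100101203ea0290004047c00002e3150147672024e004047400002b801011c00000a4a6094b8a012a30010119000009a00404600000248010117670b86600001140000220010115000007e00000f400808a0000038000006c004044800001900000300020220004043c000016000002a000005000404340000120000021356021c0000078008085000001b00000346a9544c00000b1ad01092c896100000044d62a86165010b276020acd970189d128380101020020202000001000000180aa700)) (.lf (nat_lit 0x62492ba51095380080a6001014a0000162cfc0646762e3cc92257532202a06e4053e4980bc31049592860348004050c00005380000a60020280d11723000005193c2541000014000404f99625aac8c25680020276000026c00004d296258764a030c00404e400004933d01859dcb8bed01712d8980bf80101353ed24a2ce971098880ba13f018b002026200002299680b4b43013c5284a7400404bcfb80ad9905177370aeec51405f8008095800007d68202bc00001f00080949f49237628926850404b4008093001012500000e4cec05689e80b6000006f)) (.lf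 (nat_lit 0x20312004062000007480000e887203ab3c406ad9325ca80000e436203c125406ccd72ac096701809284b6cca92e400080bdce901ad9cc975886c060e7428d84e701af9e0b97464947526f25e6cf25c9700202e200405c18b24c6942257300202db22c071c000069801016b68cb980000034000006794625ce00202cc004059400006600000cb9e6035000003299380dc80000c6650970800405859f2e3d32b01b2000018a00003118b80d2b45016e27c4ab0004055800005f80000be52e02c8c912d8d9e2e3032901934342b5d6309608d780da9664bb4)) (.lf (nat_lit 0x16a173fad32e7e80101f500203e600407c80080f8cf85cf892203df39407d000007e4e44bf600001f600003e800007cc3a15e69204beea6897b27080ec29b01ee0020392004070c0080de80101bc9ee03b30ec07c24412e100101b8b1c4bc7258977a7180ee9b055b7a7cfbbf25c078a7125f0ceb01dab104bb73a947727b2e73ce04bedb144baf3d173221c0add99301aa0020342cb92f064712e8801019e002033a51c06726f80d4801019900203300040658000075cf501d69144b4400406500080c7801018e00001d522407959780e9347019f)))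

end Cfsg.Agent.Helper19.SpP
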