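import Cfsg.Agent.Helper19.TCR.StaticDefs

set_option autoImplicit false
set_option linter.all false
set_option maxRecDepth 1000000
set_option maxHeartbeats 0

namespace Cfsg.Agent.Helper19.SpP

open Cfsg.Agent.Helper19.TCS

noncomputable def col5 : Tr Nat := (.nd (.lf (nat_lit 0xdad517558000034801012102012780000195651d1780000608bc3ea20000175a62e94801011e05012680000165611a20000005469cba411807cba310f96b5a5d2c5685c3e000012c0000250000047002022c038249d601a0e80000426acba62004045000001d8000039694ba3000000cda42e8aacc3a226b8ba36d797468008087000002b002021a0000098000012b525d1c5485032ad8b85dac2e8880101095545416b18e84da82e89260211058874108f07c1d2f1086000000f47c3e0a004040c0000052000906380ba0800404000604810000001)) (.lf (nat_lit 0x2029a00002d90404bf9d45db1002029208025ec0080a400101460000160b60eab1250fbc0010144000015681825d00080a08180971000014a00404fc1704b700000a1002027c00002790204b3a461f9c390ba7a00404e81c04b30000098000012c749764800809c0140961002026e00404d81104af000009088432f200404c80b04ad000008e0000118b38e9ac00809802a095500001100000212220cafc7221509a4749f1907d38e72ebe801012a03c1298b20e8d400003d45c1f5b404128a9207dd4e12e941c45d720020248048250c0000380010123))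 (.lf (nat_lit 0x764139ad81766c0080c384409bd002030c10026ec00007300000e59ac756e9487ecd3410ef00000e14883efc00405f10504d926a21ad00202ec00003713310bbada3aaf4843f50988875a822edf2401f73ab8138d401771d0704d1c4819ca394bade00405b00e04d100000d200202d40c0267c0080b424e1f9da04bb52d9176fc0080b203c099900202c60e8265c00006455e09a600202c4830264c0080ae024099100202b0068263c0080ab834098d000018400003000080a98360989000017800002e80080a902609859a075075e87e0a3a10c0cd43a80)) (.lf (nat_lit 0x407ec0080fcd9809feb24bbf965827f6ca2efd00101ec8e03ff000407800080efad43af68d83fea004076e350ff94561beb00203a29407fbdda04f44661ff788c33a93f17792842eec3665dcc0020372108279e7f2ee2d6009c4af83fc600406d56e1d6ead63af48dc3fe69b08789691d5a2de3ada8d03fe2b40eab80080d55065dcbafc3f9c99087640080d200000f038cbb4e8402741260ff71cc5da0af03faf429773c0080cd00000ed6c4bbd31606f540080ca83e09c900203293e9774ead04dc1d05dea00203160b0270c0080c503209c1)))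

end Cfsg.Agent.Helper19.SpP
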