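import Cfsg.Agent.Helper19.TCR.StaticDefs

set_option autoImplicit false
set_option linter.all false
set_option maxRecDepth 1000000
set_option maxHeartbeats 0

namespace Cfsg.Agent.Helper19.SpP

open Cfsg.Agent.Helper19.TCS

noncomputable def col6 : Tr Nat := (.nd (.lf (nat_lit 0xdc00001ace480b3811013b00202420000198008090000006100000be00001796480a50290133002023c0000169ab80918000055596027318404ba318096b5b012c00202300000131a6809a9c3014501e024c004045800808a80000430000080b34047000001e34f012f56a025600000d1608092b5301146ba0236d7c0469528089b4b011f56e0224000009da4808e800002258e021cd440435ac8088a61010c0020210000006400000ba5f0109556021e00404140000082c5010b47a021480404111f80839c10103000000c03404040080800000002)) (.lf (nat_lit 0x41202fa91406cce780a680000b204202f400405262180ada4b01754ce035a00002bd2480a32070172482035071405100c80b8001014139603460bc05b400809f80000a259e02ac000027c00809e800009d40a02d20e4059400809d0000099000012e000024c0a80b0001013888a02a208c057400809b00000918ba029005c0564008099000008f000011ad5404f81580aa0010130000011200002162f809bc7301509a6029f194053800003f81f014b002025400404a400003d8000079002025000001e10180a3800007402602840040490000038ac30131))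 (.lf (nat_lit 0x6ca033541406a42280de001018708203740040618000073d5b01c59ae036e00405f80000712d301dd4a6036c82c06c4ea80be00101775b60358b4407693580d82d9017600202e600003668180cda4301ab38e03a757c06500080b780000d541e034a07406840080b61cd01d0062033c00405a92780ce24701686c2037c00003341e80cc0010164076032c004058c00006480000c741a032474c05881280c8001015c036031c00405601a80c60010157000018600003041b80c40010153000017a00002ec1380c200101529a203075ec060a3a80c0cd50180)) (.lf (nat_lit 0x166407f2cb80fd59301fb00001fd65407e400007ec7101f78ce03d8b5407d23680f9ad701e08de03bf1ac07c63480ed80101d44a203dc93407440080e600000f88ae03e07440711b180e5bb501ed08603cc00406e40080dc4fd01eaafa03c69b407780080da00000f600001ea9a406d56e80f080101ae00001e4b7c07713280eb50901e9af2039e98c06aa2c80e544701eb9f6038c0040680000077a1101d2a16039d5fc075dd980dfb6701e8a0e03b112406901f80e40010195a02034d574069e7f80f2d6101e405a0384004062c1980e0001018a)))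

end Cfsg.Agent.Helper19.SpP
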