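import Cfsg.Agent.Helper19.TCR.StaticDefs
import Cfsg.Agent.Helper19.SpP.Col0
import Cfsg.Agent.Helper19.SpP.Col1
import Cfsg.Agent.Helper19.SpP.Col2
import Cfsg.Agent.Helper19.SpP.Col3
import Cfsg.Agent.Helper19.SpP.Col4
import Cfsg.Agent.Helper19.SpP.Col5
import Cfsg.Agent.Helper19.SpP.Col6

set_option autoImplicit false
set_option linter.all false
set_option maxRecDepth 1000000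
set_option maxHeartbeats 0

namespace Cfsg.Agent.Helper19.SpP

open Cfsg.Agent.Helper19.TCS

noncomputable def colF (l : Nat) : Tr Nat := Nat.rec (motive := fun _ => Tr Nat) col0 (fun l _ => Nat.rec (motive := fun _ => Tr Nat) col1 (fun l _ => Nat.rec (motive := fun _ => Tr Nat) col2 (fun l _ => Nat.rec (motive := fun _ => Tr Nat) col3 (fun l _ => Nat.rec (motive := fun _ => Tr Nat) col4 (fun l _ => Nat.rec (motive := fun _ => Tr Nat) col5 (fun l _ => col6) l) l) l) l) l) l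
noncomputable def ent (i l : Nat) : Nat := Nat.mod (Nat.shiftRight (Tr.get (colF l) (Nat.div i 64)) (Nat.mul 27 (Nat.mod i 64))) 134217728
noncomputable def ptree : Tr Nat := (.nd (.lf (nat_lit 0x42301230422062105210221052004200220041f011f061e051e041d021d041c031c021b021a041905180418011804170616051605150415021506140414031402130412031201120410040f060e020e060d040d030d010d030b020b040a06090508030802080307010705050305010502040603020304020401060005000000)) (.lf (nat_lit 0x64d024d044c044a0649054906480646034601460245064402440443064105410440063f053f023f063e043e053d023d043b063a053a033a013a0439063805380637063605360435023506320532023204310131063005300230042f022f032d012d022c042b062a052a05290429022905280228042604250624052402240623))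 (.lf (nat_lit 0x48904880687058706860586038602860380057e037e017e027d067c047b05770676037603750175057303730173027204710470056f026f046d066c056c046b066a056a066802670466046506640564066305630363026306620461065c055c065805580657055702570456065305530353015306520552034f024f034e014e)) (.lf (nat_lit 0x6fb06f904f504f304f204f106ec02e806e006df03dd02dd06db02da05d406d102d005cc02cc04c904c304bd04bc06b905b905b804b802b706b505b403b402b403b301b305ae02ae03ac06aa03a902a903a806a403a404a105a002a0049e049d029b069a0499049804960695059506940494048f048e068b058b068a058a)))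
noncomputable def pent (i : Nat) : Nat := Nat.mod (Nat.shiftRight (Tr.get ptree (Nat.div i 64)) (Nat.mul 16 (Nat.mod i 64))) 65536
noncomputable def parF (i : Nat) : Nat := Nat.mod (pent i) 256
noncomputable def pletF (i : Nat) : Nat := Nat.div (pent i) 256
noncomputable def invF (l : Nat) : Nat := Nat.rec (motive := fun _ => Nat) 0 (fun l _ => Nat.rec (motive := fun _ => Nat) 1 (fun l _ => Nat.rec (motive := fun _ => Nat) 2 (fun l _ => Nat.rec (motive := fun _ => Nat) 3 (fun l _ => Nat.rec (motive := fun _ => Nat) 4 (fun l _ => Nat.rec (motive := fun _ => Nat) 6 (fun l _ => 5) l) l) l) l) l) l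
noncomputable def rotT : Tr (List Nat × Nat) := (.nd (.nd (.nd (.nd (.lf ([0], 0)) (.lf ([3, 1, 3, 6, 1], 5)) (.lf ([2, 1, 2, 4, 3, 2, 1, 2, 4, 3, 2, 1, 2, 3, 4, 2, 1, 2, 3], 4)) (.lf ([], 0))) (.nd (.lf ([3, 1, 3], 1)) (.lf ([3, 5, 4, 3, 4], 5)) (.lf ([2, 1, 3, 2, 1, 2, 4, 2, 3, 1, 2, 1, 2, 4, 2, 3, 1, 2, 1, 2], 4)) (.lf ([], 0))) (.nd (.lf ([3, 2, 3, 2, 3], 2)) (.lf ([1, 2, 1, 2, 1, 2, 0, 1, 2, 1], 2)) (.lf ([1, 2, 1, 2, 4, 2, 1, 3, 2, 1, 2, 4, 2, 3, 1, 2, 1, 2, 4, 2], 3)) (.lf ([], 0))) (.nd (.lf ([3, 5, 0, 5, 3], 0)) (.lf ([3, 2, 1, 2, 3, 1, 2, 1, 2, 3, 2, 1, 2, 1], 2)) (.lf ([], 0)) (.lf ([], 0)))) (.nd (.nd (.lf ([4], 4)) (.lf ([0, 5, 4, 0, 4], 5)) (.lf ([3, 2, 1, 2, 4, 3, 2, 1, 2, 3, 4, 2, 1, 2, 3, 4, 2, 1,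 2], 4)) (.lf ([], 0))) (.nd (.lf ([4, 3, 4], 3)) (.lf ([4, 6, 1, 5, 4], 1)) (.lf ([1, 2, 4, 2, 3, 1, 2, 1, 2, 4, 2, 3, 1, 2, 1, 2, 4, 2, 1, 3], 2)) (.lf ([], 0))) (.nd (.lf ([1, 5, 0, 5, 1], 0)) (.lf ([1, 2, 0, 1, 2, 1, 2, 1, 2, 1], 2)) (.lf ([], 0)) (.lf ([], 0))) (.nd (.lf ([3, 0, 3, 5, 0], 5)) (.lf ([3, 1, 2, 1, 2, 3, 2, 1, 2, 1, 2, 3, 2, 1], 2)) (.lf ([], 0)) (.lf ([], 0)))) (.nd (.nd (.lf ([1, 0, 1], 0)) (.lf ([4, 5, 1, 6, 4], 1)) (.lf ([4, 3, 2, 1, 2, 3, 4, 2, 1, 2, 3, 4, 2, 1, 2, 4, 3, 2, 1], 2)) (.lf ([], 0))) (.nd (.lf ([5, 1, 6], 1)) (.lf ([4, 1, 4, 6, 1], 5)) (.lf ([3, 1, 2, 1, 2, 4, 2, 3, 1, 2, 1, 2, 4, 2, 1, 3, 2, 1, 2, 4], 2)) (.lf ([], 0))) (.nd (.lf ([1, 0, 1, 5, 0], 5)) (.lf ([1, 2, 3, 2, 1, 2, 1,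 2, 3, 2, 1, 2, 3, 1], 2)) (.lf ([], 0)) (.lf ([], 0))) (.nd (.lf ([1, 6, 3, 1, 3], 5)) (.lf ([2, 3, 4, 2, 1, 2, 3, 4, 2, 1, 2, 4, 3, 2, 1, 2, 4, 3, 2], 1)) (.lf ([], 0)) (.lf ([], 0)))) (.nd (.nd (.lf ([3, 0, 3], 0)) (.lf ([4, 1, 4, 5, 1], 6)) (.lf ([2, 1, 2, 4, 2, 1, 3, 2, 1, 2, 4, 2, 3, 1, 2, 1, 2, 4, 2, 3], 1)) (.lf ([], 0))) (.nd (.lf ([5, 2, 5], 2)) (.lf ([1, 2, 1, 2, 1, 2, 1, 2, 1, 2], 0)) (.lf ([2, 4, 2, 3, 1, 2, 1, 2, 4, 2, 1, 3, 2, 1, 2, 4, 2, 3, 1, 2], 1)) (.lf ([], 0))) (.nd (.lf ([0, 5, 2, 0, 2], 5)) (.lf ([1, 2, 1, 2, 3, 2, 1, 2, 3, 1, 2, 1, 2, 3], 2)) (.lf ([], 0)) (.lf ([], 0))) (.nd (.lf ([3, 6, 1, 5, 3], 1)) (.lf ([1, 2, 3, 4, 2, 1, 2, 4, 3, 2, 1, 2, 4, 3, 2, 1, 2, 3, 4], 2)) (.lf ([], 0)) (.lf ([],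 0))))) (.nd (.nd (.nd (.lf ([1], 1)) (.lf ([1, 3, 6, 1, 5], 3)) (.lf ([1, 2, 4, 3, 2, 1, 2, 4, 3, 2, 1, 2, 3, 4, 2, 1, 2, 3, 4], 2)) (.lf ([], 0))) (.nd (.lf ([1, 3, 1], 3)) (.lf ([5, 4, 3, 4, 5], 3)) (.lf ([1, 3, 2, 1, 2, 4, 2, 3, 1, 2, 1, 2, 4, 2, 3, 1, 2, 1, 2, 4], 2)) (.lf ([], 0))) (.nd (.lf ([2, 3, 2, 3, 2], 3)) (.lf ([2, 1, 2, 1, 2, 0, 1, 2, 1, 2], 1)) (.lf ([], 0)) (.lf ([], 0))) (.nd (.lf ([5, 0, 5, 3, 0], 3)) (.lf ([2, 1, 2, 3, 1, 2, 1, 2, 3, 2, 1, 2, 1, 2], 3)) (.lf ([], 0)) (.lf ([], 0)))) (.nd (.nd (.lf ([6], 5)) (.lf ([5, 4, 0, 4, 5], 0)) (.lf ([2, 1, 2, 4, 3, 2, 1, 2, 3, 4, 2, 1, 2, 3, 4, 2, 1, 2, 4], 3)) (.lf ([], 0))) (.nd (.lf ([3, 4, 3], 4)) (.lf ([6, 1, 5, 4, 1], 4)) (.lf ([2, 4, 2, 3, 1, 2, 1,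 2, 4, 2, 3, 1, 2, 1, 2, 4, 2, 1, 3, 2], 1)) (.lf ([], 0))) (.nd (.lf ([5, 0, 5, 1, 0], 1)) (.lf ([2, 0, 1, 2, 1, 2, 1, 2, 1, 2], 1)) (.lf ([], 0)) (.lf ([], 0))) (.nd (.lf ([0, 3, 5, 0, 5], 3)) (.lf ([1, 2, 1, 2, 3, 2, 1, 2, 1, 2, 3, 2, 1, 2], 3)) (.lf ([], 0)) (.lf ([], 0)))) (.nd (.nd (.lf ([0, 1, 0], 1)) (.lf ([5, 1, 6, 4, 1], 4)) (.lf ([3, 2, 1, 2, 3, 4, 2, 1, 2, 3, 4, 2, 1, 2, 4, 3, 2, 1, 2], 4)) (.lf ([], 0))) (.nd (.lf ([1, 6, 1], 5)) (.lf ([1, 4, 6, 1, 5], 4)) (.lf ([1, 2, 1, 2, 4, 2, 3, 1, 2, 1, 2, 4, 2, 1, 3, 2, 1, 2, 4, 2], 3)) (.lf ([], 0))) (.nd (.lf ([0, 1, 5, 0, 5], 1)) (.lf ([2, 3, 2, 1, 2, 1, 2, 3, 2, 1, 2, 3, 1, 2], 1)) (.lf ([], 0)) (.lf ([], 0))) (.nd (.lf ([6, 3, 1, 3, 5], 1)) (.lf ([3, 4, 2,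 1, 2, 3, 4, 2, 1, 2, 4, 3, 2, 1, 2, 4, 3, 2, 1], 2)) (.lf ([], 0)) (.lf ([], 0)))) (.nd (.nd (.lf ([0, 3, 0], 3)) (.lf ([1, 4, 5, 1, 6], 4)) (.lf ([1, 2, 4, 2, 1, 3, 2, 1, 2, 4, 2, 3, 1, 2, 1, 2, 4, 2, 3, 1], 2)) (.lf ([], 0))) (.nd (.lf ([2, 5, 2], 5)) (.lf ([2, 1, 2, 1, 2, 1, 2, 1, 2, 0], 1)) (.lf ([4, 2, 3, 1, 2, 1, 2, 4, 2, 1, 3, 2, 1, 2, 4, 2, 3, 1, 2, 1], 2)) (.lf ([], 0))) (.nd (.lf ([5, 2, 0, 2, 5], 0)) (.lf ([2, 1, 2, 3, 2, 1, 2, 3, 1, 2, 1, 2, 3, 2], 1)) (.lf ([], 0)) (.lf ([], 0))) (.nd (.lf ([6, 1, 5, 3, 1], 3)) (.lf ([2, 3, 4, 2, 1, 2, 4, 3, 2, 1, 2, 4, 3, 2, 1, 2, 3, 4, 2], 1)) (.lf ([], 0)) (.lf ([], 0))))) (.nd (.nd (.nd (.lf ([2], 2)) (.lf ([4, 5, 0, 5, 4], 0)) (.lf ([2, 4, 3, 2, 1, 2, 4, 3, 2, 1,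 2, 3, 4, 2, 1, 2, 3, 4, 2], 1)) (.lf ([], 0))) (.nd (.lf ([4, 1, 4], 1)) (.lf ([4, 3, 4, 5, 3], 5)) (.lf ([3, 2, 1, 2, 4, 2, 3, 1, 2, 1, 2, 4, 2, 3, 1, 2, 1, 2, 4, 2], 1)) (.lf ([], 0))) (.nd (.lf ([4, 2, 4, 2, 4], 2)) (.lf ([1, 2, 1, 2, 0, 1, 2, 1, 2, 1], 2)) (.lf ([], 0)) (.lf ([], 0))) (.nd (.lf ([0, 5, 3, 0, 3], 5)) (.lf ([1, 2, 3, 1, 2, 1, 2, 3, 2, 1, 2, 1, 2, 3], 2)) (.lf ([], 0)) (.lf ([], 0)))) (.nd (.nd (.lf ([5], 6)) (.lf ([4, 0, 4, 5, 0], 5)) (.lf ([1, 2, 4, 3, 2, 1, 2, 3, 4, 2, 1, 2, 3, 4, 2, 1, 2, 4, 3], 2)) (.lf ([], 0))) (.nd (.lf ([5, 0, 5], 0)) (.lf ([1, 5, 4, 1, 4], 6)) (.lf ([4, 2, 3, 1, 2, 1, 2, 4, 2, 3, 1, 2, 1, 2, 4, 2, 1, 3, 2, 1], 2)) (.lf ([], 0))) (.nd (.lf ([0, 5, 1, 0, 1], 5)) (.lf ([0,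 1, 2, 1, 2, 1, 2, 1, 2, 1], 2)) (.lf ([], 0)) (.lf ([], 0))) (.nd (.lf ([3, 5, 1, 6, 3], 1)) (.lf ([2, 1, 2, 1, 2, 1, 2, 1, 2, 1, 2, 1, 2, 1, 2, 1, 2, 1, 2], 1)) (.lf ([], 0)) (.lf ([], 0)))) (.nd (.nd (.lf ([2, 0, 2], 0)) (.lf ([1, 6, 4, 1, 4], 5)) (.lf ([2, 1, 2, 3, 4, 2, 1, 2, 3, 4, 2, 1, 2, 4, 3, 2, 1, 2, 4], 3)) (.lf ([], 0))) (.nd (.lf ([6, 1, 5], 1)) (.lf ([5, 4, 5, 4, 5], 4)) (.lf ([2, 1, 2, 4, 2, 3, 1, 2, 1, 2, 4, 2, 1, 3, 2, 1, 2, 4, 2, 3], 1)) (.lf ([], 0))) (.nd (.lf ([2, 5, 0, 5, 2], 0)) (.lf ([3, 2, 1, 2, 1, 2, 3, 2, 1, 2, 3, 1, 2, 1], 2)) (.lf ([], 0)) (.lf ([], 0))) (.nd (.lf ([3, 1, 3, 5, 1], 6)) (.lf ([4, 2, 1, 2, 3, 4, 2, 1, 2, 4, 3, 2, 1, 2, 4, 3, 2, 1, 2], 3)) (.lf ([], 0)) (.lf ([], 0)))) (.nd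 (.nd (.lf ([4, 0, 4], 0)) (.lf ([4, 5, 3, 5, 4], 3)) (.lf ([2, 4, 2, 1, 3, 2, 1, 2, 4, 2, 3, 1, 2, 1, 2, 4, 2, 3, 1, 2], 1)) (.lf ([], 0))) (.nd (.lf ([5, 3, 5], 3)) (.lf ([1, 2, 1, 2, 1, 2, 1, 2, 0, 1], 2)) (.lf ([2, 3, 1, 2, 1, 2, 4, 2, 1, 3, 2, 1, 2, 4, 2, 3, 1, 2, 1, 2], 4)) (.lf ([], 0))) (.nd (.lf ([2, 0, 2, 5, 0], 5)) (.lf ([1, 2, 3, 2, 1, 2, 3, 1, 2, 1, 2, 3, 2, 1], 2)) (.lf ([], 0)) (.lf ([], 0))) (.nd (.lf ([1, 5, 3, 1, 3], 6)) (.lf ([3, 4, 2, 1, 2, 4, 3, 2, 1, 2, 4, 3, 2, 1, 2, 3, 4, 2, 1], 2)) (.lf ([], 0)) (.lf ([], 0))))) (.nd (.nd (.nd (.lf ([3], 3)) (.lf ([5, 0, 5, 4, 0], 4)) (.lf ([4, 3, 2, 1, 2, 4, 3, 2, 1, 2, 3, 4, 2, 1, 2, 3, 4, 2, 1], 2)) (.lf ([], 0))) (.nd (.lf ([1, 4, 1], 4)) (.lf ([3, 4,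 5, 3, 5], 4)) (.lf ([2, 1, 2, 4, 2, 3, 1, 2, 1, 2, 4, 2, 3, 1, 2, 1, 2, 4, 2, 1], 3)) (.lf ([], 0))) (.nd (.lf ([2, 4, 2, 4, 2], 4)) (.lf ([2, 1, 2, 0, 1, 2, 1, 2, 1, 2], 1)) (.lf ([], 0)) (.lf ([], 0))) (.nd (.lf ([5, 3, 0, 3, 5], 0)) (.lf ([2, 3, 1, 2, 1, 2, 3, 2, 1, 2, 1, 2, 3, 2], 1)) (.lf ([], 0)) (.lf ([], 0)))) (.nd (.nd (.lf ([5, 5], 5)) (.lf ([0, 4, 5, 0, 5], 4)) (.lf ([2, 4, 3, 2, 1, 2, 3, 4, 2, 1, 2, 3, 4, 2, 1, 2, 4, 3, 2], 1)) (.lf ([], 0))) (.nd (.lf ([0, 5, 0], 5)) (.lf ([5, 4, 1, 4, 6], 1)) (.lf ([2, 3, 1, 2, 1, 2, 4, 2, 3, 1, 2, 1, 2, 4, 2, 1, 3, 2, 1, 2], 4)) (.lf ([], 0))) (.nd (.lf ([5, 1, 0, 1, 5], 0)) (.lf ([2, 1, 2, 3, 2, 1, 2, 1, 2, 3, 2, 1, 2, 3], 1)) (.lf ([], 0)) (.lf ([], 0))) (.nd (.lf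 ([5, 1, 6, 3, 1], 3)) (.lf ([1, 2, 1, 2, 1, 2, 1, 2, 1, 2, 1, 2, 1, 2, 1, 2, 1, 2, 1], 2)) (.lf ([], 0)) (.lf ([], 0)))) (.nd (.nd (.lf ([0, 2, 0], 2)) (.lf ([6, 4, 1, 4, 5], 1)) (.lf ([1, 2, 3, 4, 2, 1, 2, 3, 4, 2, 1, 2, 4, 3, 2, 1, 2, 4, 3], 2)) (.lf ([], 0))) (.nd (.lf ([1, 5, 1], 6)) (.lf ([4, 5, 4, 5, 4], 5)) (.lf ([1, 2, 4, 2, 3, 1, 2, 1, 2, 4, 2, 1, 3, 2, 1, 2, 4, 2, 3, 1], 2)) (.lf ([], 0))) (.nd (.lf ([5, 0, 5, 2, 0], 2)) (.lf ([2, 1, 2, 1, 2, 3, 2, 1, 2, 3, 1, 2, 1, 2], 3)) (.lf ([], 0)) (.lf ([], 0))) (.nd (.lf ([1, 3, 5, 1, 6], 3)) (.lf ([2, 1, 2, 3, 4, 2, 1, 2, 4, 3, 2, 1, 2, 4, 3, 2, 1, 2, 3], 4)) (.lf ([], 0)) (.lf ([], 0)))) (.nd (.nd (.lf ([0, 4, 0], 4)) (.lf ([5, 3, 5, 4, 3], 4)) (.lf ([4, 2, 1,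 3, 2, 1, 2, 4, 2, 3, 1, 2, 1, 2, 4, 2, 3, 1, 2, 1], 2)) (.lf ([], 0))) (.nd (.lf ([3, 5, 3], 5)) (.lf ([2, 1, 2, 1, 2, 1, 2, 0, 1, 2], 1)) (.lf ([3, 1, 2, 1, 2, 4, 2, 1, 3, 2, 1, 2, 4, 2, 3, 1, 2, 1, 2, 4], 2)) (.lf ([], 0))) (.nd (.lf ([0, 2, 5, 0, 5], 2)) (.lf ([2, 3, 2, 1, 2, 3, 1, 2, 1, 2, 3, 2, 1, 2], 1)) (.lf ([], 0)) (.lf ([], 0))) (.nd (.lf ([5, 3, 1, 3, 6], 1)) (.lf ([4, 2, 1, 2, 4, 3, 2, 1, 2, 4, 3, 2, 1, 2, 3, 4, 2, 1, 2], 3)) (.lf ([], 0)) (.lf ([], 0))))))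
noncomputable def rotsF (r : Nat) : List Nat × Nat := Tr.get rotT r
def rotL : List (List Nat × Nat) := [([0], 0), ([1], 1), ([2], 2), ([3], 3), ([4], 4), ([6], 5), ([5], 6), ([5, 5], 5), ([1, 0, 1], 0), ([0, 1, 0], 1), ([2, 0, 2], 0), ([0, 2, 0], 2), ([3, 0, 3], 0), ([0, 3, 0], 3), ([4, 0, 4], 0), ([0, 4, 0], 4), ([3, 1, 3], 1), ([1, 3, 1], 3), ([4, 1, 4], 1), ([1, 4, 1], 4), ([4, 3, 4], 3), ([3, 4, 3], 4), ([5, 0, 5], 0), ([0, 5, 0], 5), ([5, 1, 6], 1), ([1, 6, 1], 5), ([6, 1, 5], 1), ([1, 5, 1], 6), ([5, 2, 5], 2), ([2, 5, 2], 5), ([5, 3, 5], 3), ([3, 5, 3], 5), ([3, 2, 3, 2, 3], 2), ([2, 3, 2, 3, 2], 3), ([4, 2, 4, 2, 4], 2), ([2, 4, 2, 4, 2], 4), ([1, 5, 0, 5, 1], 0), ([5, 0, 5, 1, 0], 1), ([0, 5, 1, 0, 1],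 5), ([5, 1, 0, 1, 5], 0), ([1, 0, 1, 5, 0], 5), ([0, 1, 5, 0, 5], 1), ([2, 5, 0, 5, 2], 0), ([5, 0, 5, 2, 0], 2), ([0, 5, 2, 0, 2], 5), ([5, 2, 0, 2, 5], 0), ([2, 0, 2, 5, 0], 5), ([0, 2, 5, 0, 5], 2), ([3, 5, 0, 5, 3], 0), ([5, 0, 5, 3, 0], 3), ([0, 5, 3, 0, 3], 5), ([5, 3, 0, 3, 5], 0), ([3, 0, 3, 5, 0], 5), ([0, 3, 5, 0, 5], 3), ([3, 5, 1, 6, 3], 1), ([5, 1, 6, 3, 1], 3), ([1, 6, 3, 1, 3], 5), ([6, 3, 1, 3, 5], 1), ([3, 1, 3, 5, 1], 6), ([1, 3, 5, 1, 6], 3), ([3, 6, 1, 5, 3], 1), ([6, 1, 5, 3, 1], 3), ([1, 5, 3, 1, 3], 6), ([5, 3, 1, 3, 6], 1), ([3, 1, 3, 6, 1], 5), ([1, 3, 6, 1, 5], 3), ([4, 5, 0, 5, 4], 0), ([5, 0, 5, 4, 0], 4), ([0, 5, 4, 0, 4], 5), ([5, 4, 0, 4, 5], 0), ([4, 0, 4, 5, 0], 5), ([0, 4, 5, 0,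 5], 4), ([4, 5, 1, 6, 4], 1), ([5, 1, 6, 4, 1], 4), ([1, 6, 4, 1, 4], 5), ([6, 4, 1, 4, 5], 1), ([4, 1, 4, 5, 1], 6), ([1, 4, 5, 1, 6], 4), ([4, 5, 3, 5, 4], 3), ([5, 3, 5, 4, 3], 4), ([3, 5, 4, 3, 4], 5), ([5, 4, 3, 4, 5], 3), ([4, 3, 4, 5, 3], 5), ([3, 4, 5, 3, 5], 4), ([4, 6, 1, 5, 4], 1), ([6, 1, 5, 4, 1], 4), ([1, 5, 4, 1, 4], 6), ([5, 4, 1, 4, 6], 1), ([4, 1, 4, 6, 1], 5), ([1, 4, 6, 1, 5], 4), ([5, 4, 5, 4, 5], 4), ([4, 5, 4, 5, 4], 5), ([1, 2, 1, 2, 1, 2, 1, 2, 1, 2], 0), ([2, 1, 2, 1, 2, 1, 2, 1, 2, 0], 1), ([1, 2, 1, 2, 1, 2, 1, 2, 0, 1], 2), ([2, 1, 2, 1, 2, 1, 2, 0, 1, 2], 1), ([1, 2, 1, 2, 1, 2, 0, 1, 2, 1], 2), ([2, 1, 2, 1, 2, 0, 1, 2, 1, 2], 1), ([1, 2, 1, 2, 0, 1, 2, 1, 2, 1], 2), ([2, 1, 2, 0, 1,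 2, 1, 2, 1, 2], 1), ([1, 2, 0, 1, 2, 1, 2, 1, 2, 1], 2), ([2, 0, 1, 2, 1, 2, 1, 2, 1, 2], 1), ([0, 1, 2, 1, 2, 1, 2, 1, 2, 1], 2), ([2, 1, 2, 3, 2, 1, 2, 1, 2, 3, 2, 1, 2, 3], 1), ([1, 2, 3, 2, 1, 2, 1, 2, 3, 2, 1, 2, 3, 1], 2), ([2, 3, 2, 1, 2, 1, 2, 3, 2, 1, 2, 3, 1, 2], 1), ([3, 2, 1, 2, 1, 2, 3, 2, 1, 2, 3, 1, 2, 1], 2), ([2, 1, 2, 1, 2, 3, 2, 1, 2, 3, 1, 2, 1, 2], 3), ([1, 2, 1, 2, 3, 2, 1, 2, 3, 1, 2, 1, 2, 3], 2), ([2, 1, 2, 3, 2, 1, 2, 3, 1, 2, 1, 2, 3, 2], 1), ([1, 2, 3, 2, 1, 2, 3, 1, 2, 1, 2, 3, 2, 1], 2), ([2, 3, 2, 1, 2, 3, 1, 2, 1, 2, 3, 2, 1, 2], 1), ([3, 2, 1, 2, 3, 1, 2, 1, 2, 3, 2, 1, 2, 1], 2), ([2, 1, 2, 3, 1, 2, 1, 2, 3, 2, 1, 2, 1, 2], 3), ([1, 2, 3, 1, 2, 1, 2, 3, 2, 1, 2, 1, 2, 3], 2), ([2,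 3, 1, 2, 1, 2, 3, 2, 1, 2, 1, 2, 3, 2], 1), ([3, 1, 2, 1, 2, 3, 2, 1, 2, 1, 2, 3, 2, 1], 2), ([1, 2, 1, 2, 3, 2, 1, 2, 1, 2, 3, 2, 1, 2], 3), ([2, 1, 2, 1, 2, 1, 2, 1, 2, 1, 2, 1, 2, 1, 2, 1, 2, 1, 2], 1), ([1, 2, 1, 2, 1, 2, 1, 2, 1, 2, 1, 2, 1, 2, 1, 2, 1, 2, 1], 2), ([2, 3, 4, 2, 1, 2, 3, 4, 2, 1, 2, 4, 3, 2, 1, 2, 4, 3, 2], 1), ([3, 4, 2, 1, 2, 3, 4, 2, 1, 2, 4, 3, 2, 1, 2, 4, 3, 2, 1], 2), ([4, 2, 1, 2, 3, 4, 2, 1, 2, 4, 3, 2, 1, 2, 4, 3, 2, 1, 2], 3), ([2, 1, 2, 3, 4, 2, 1, 2, 4, 3, 2, 1, 2, 4, 3, 2, 1, 2, 3], 4), ([1, 2, 3, 4, 2, 1, 2, 4, 3, 2, 1, 2, 4, 3, 2, 1, 2, 3, 4], 2), ([2, 3, 4, 2, 1, 2, 4, 3, 2, 1, 2, 4, 3, 2, 1, 2, 3, 4, 2], 1), ([3, 4, 2, 1, 2, 4, 3, 2, 1, 2, 4, 3, 2, 1, 2, 3, 4, 2, 1], 2), ([4,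 2, 1, 2, 4, 3, 2, 1, 2, 4, 3, 2, 1, 2, 3, 4, 2, 1, 2], 3), ([2, 1, 2, 4, 3, 2, 1, 2, 4, 3, 2, 1, 2, 3, 4, 2, 1, 2, 3], 4), ([1, 2, 4, 3, 2, 1, 2, 4, 3, 2, 1, 2, 3, 4, 2, 1, 2, 3, 4], 2), ([2, 4, 3, 2, 1, 2, 4, 3, 2, 1, 2, 3, 4, 2, 1, 2, 3, 4, 2], 1), ([4, 3, 2, 1, 2, 4, 3, 2, 1, 2, 3, 4, 2, 1, 2, 3, 4, 2, 1], 2), ([3, 2, 1, 2, 4, 3, 2, 1, 2, 3, 4, 2, 1, 2, 3, 4, 2, 1, 2], 4), ([2, 1, 2, 4, 3, 2, 1, 2, 3, 4, 2, 1, 2, 3, 4, 2, 1, 2, 4], 3), ([1, 2, 4, 3, 2, 1, 2, 3, 4, 2, 1, 2, 3, 4, 2, 1, 2, 4, 3], 2), ([2, 4, 3, 2, 1, 2, 3, 4, 2, 1, 2, 3, 4, 2, 1, 2, 4, 3, 2], 1), ([4, 3, 2, 1, 2, 3, 4, 2, 1, 2, 3, 4, 2, 1, 2, 4, 3, 2, 1], 2), ([3, 2, 1, 2, 3, 4, 2, 1, 2, 3, 4, 2, 1, 2, 4, 3, 2, 1, 2], 4), ([2, 1, 2, 3, 4, 2, 1,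 2, 3, 4, 2, 1, 2, 4, 3, 2, 1, 2, 4], 3), ([1, 2, 3, 4, 2, 1, 2, 3, 4, 2, 1, 2, 4, 3, 2, 1, 2, 4, 3], 2), ([2, 1, 2, 4, 2, 1, 3, 2, 1, 2, 4, 2, 3, 1, 2, 1, 2, 4, 2, 3], 1), ([1, 2, 4, 2, 1, 3, 2, 1, 2, 4, 2, 3, 1, 2, 1, 2, 4, 2, 3, 1], 2), ([2, 4, 2, 1, 3, 2, 1, 2, 4, 2, 3, 1, 2, 1, 2, 4, 2, 3, 1, 2], 1), ([4, 2, 1, 3, 2, 1, 2, 4, 2, 3, 1, 2, 1, 2, 4, 2, 3, 1, 2, 1], 2), ([2, 1, 3, 2, 1, 2, 4, 2, 3, 1, 2, 1, 2, 4, 2, 3, 1, 2, 1, 2], 4), ([1, 3, 2, 1, 2, 4, 2, 3, 1, 2, 1, 2, 4, 2, 3, 1, 2, 1, 2, 4], 2), ([3, 2, 1, 2, 4, 2, 3, 1, 2, 1, 2, 4, 2, 3, 1, 2, 1, 2, 4, 2], 1), ([2, 1, 2, 4, 2, 3, 1, 2, 1, 2, 4, 2, 3, 1, 2, 1, 2, 4, 2, 1], 3), ([1, 2, 4, 2, 3, 1, 2, 1, 2, 4, 2, 3, 1, 2, 1, 2, 4, 2, 1, 3], 2), ([2, 4, 2, 3,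 1, 2, 1, 2, 4, 2, 3, 1, 2, 1, 2, 4, 2, 1, 3, 2], 1), ([4, 2, 3, 1, 2, 1, 2, 4, 2, 3, 1, 2, 1, 2, 4, 2, 1, 3, 2, 1], 2), ([2, 3, 1, 2, 1, 2, 4, 2, 3, 1, 2, 1, 2, 4, 2, 1, 3, 2, 1, 2], 4), ([3, 1, 2, 1, 2, 4, 2, 3, 1, 2, 1, 2, 4, 2, 1, 3, 2, 1, 2, 4], 2), ([1, 2, 1, 2, 4, 2, 3, 1, 2, 1, 2, 4, 2, 1, 3, 2, 1, 2, 4, 2], 3), ([2, 1, 2, 4, 2, 3, 1, 2, 1, 2, 4, 2, 1, 3, 2, 1, 2, 4, 2, 3], 1), ([1, 2, 4, 2, 3, 1, 2, 1, 2, 4, 2, 1, 3, 2, 1, 2, 4, 2, 3, 1], 2), ([2, 4, 2, 3, 1, 2, 1, 2, 4, 2, 1, 3, 2, 1, 2, 4, 2, 3, 1, 2], 1), ([4, 2, 3, 1, 2, 1, 2, 4, 2, 1, 3, 2, 1, 2, 4, 2, 3, 1, 2, 1], 2), ([2, 3, 1, 2, 1, 2, 4, 2, 1, 3, 2, 1, 2, 4, 2, 3, 1, 2, 1, 2], 4), ([3, 1, 2, 1, 2, 4, 2, 1, 3, 2, 1, 2, 4, 2, 3, 1, 2, 1, 2, 4], 2),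 ([1, 2, 1, 2, 4, 2, 1, 3, 2, 1, 2, 4, 2, 3, 1, 2, 1, 2, 4, 2], 3)]
def subL : List (List Nat × Nat × List Nat) := [([], 0, []), ([], 1, []), ([], 2, []), ([], 3, []), ([], 4, [])]
def subsF (s : Nat) : List Nat × Nat × List Nat := subL.getD s ([], 7, [])
def rels : List (List Nat) := [[0, 0], [1, 1], [2, 2], [3, 3], [4, 4], [1, 2, 1, 2, 1, 2, 1, 2, 1, 2, 1, 2, 1, 2, 1, 2, 1, 2, 1, 2], [2, 3, 2, 3, 2, 3], [2, 4, 2, 4, 2, 4], [0, 1, 0, 1], [0, 2, 0, 2], [0, 3, 0, 3], [0, 4, 0, 4], [1, 3, 1, 3], [1, 4, 1, 4], [3, 4, 3, 4], [0, 1, 2, 1, 2, 1, 2, 1, 2, 1, 2], [1, 2, 3, 4, 2, 1, 2, 3, 4, 2, 1, 2, 4, 3, 2, 1, 2, 4, 3, 2], [1, 2, 1, 2, 3, 2, 1, 2, 1, 2, 3, 2, 1, 2, 3], [1, 2, 1, 2, 4, 2, 1, 3, 2, 1, 2, 4, 2, 3, 1, 2, 1,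 2, 4, 2, 3], [5, 6], [5, 5, 5], [0, 5, 0, 5], [1, 5, 1, 6], [2, 5, 2, 5], [3, 5, 3, 5], [0, 1, 5, 0, 5, 1], [0, 2, 5, 0, 5, 2], [0, 3, 5, 0, 5, 3], [1, 3, 5, 1, 6, 3], [1, 3, 6, 1, 5, 3], [0, 4, 5, 0, 5, 4], [1, 4, 5, 1, 6, 4], [3, 4, 5, 3, 5, 4], [1, 4, 6, 1, 5, 4], [4, 5, 4, 5, 4, 5]]
def subs : List (List Nat) := [[0], [1], [2], [3], [4]]
def N : Nat := 255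
def nc : Nat := 7
def md : Nat := 256
def nrots : Nat := 161

abbrev OKE (i l : Nat) : Prop := okEdge 255 256 256 65536 invF ent parF pletF 161 rotsF subsF i l = true
abbrev OKR (lo n : Nat) : Prop := okRows 255 7 256 256 65536 invF ent parF pletF 161 rotsF subsF lo n = true
abbrev OKT (lo n : Nat) : Prop := okTree 255 parF lo n = true

end Cfsg.Agent.Helper19.SpP
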